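import Groth.Agent.FibSite.Basic
import Mathlib.CategoryTheory.Sites.LocallyBijective

/-!
# Sheaves for the total topology
-/

set_option backward.isDefEq.respectTransparency false
set_option backward.isDefEq.respectTransparency.types false

universe w v₃ u₃ v₂ u₂ v₁ u₁

open CategoryTheory Opposite Bicategory Pseudofunctor Pseudofunctor.CoGrothendieck

namespace Groth.Agent.FibSite

variable {𝒮 : Type u₁} [Category.{v₁} 𝒮]
  {F : Pseudofunctor (LocallyDiscrete 𝒮ᵒᵖ) Cat.{v₂, u₂}} {J : FibSite.Topologies F}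

section Separation

variable {P : (∫ᶜ F)ᵒᵖ ⥤ Type w} (hP : Presieve.IsSeparated (FibSite.totalTopology F J) P)

include hP in
lemma separated_fibre {S : 𝒮} {V : F.obj ⟨op S⟩} {R : Sieve V} (hR : R ∈ J S V)
    (x y : P.obj (op ((ι F S).obj V)))
    (h : ∀ ⦃W : F.obj ⟨op S⟩⦄ (l : W ⟶ V), R l →
      P.map ((ι F S).map l).op x = P.map ((ι F S).map l).op y) :
    x = y := by
  refine (hP _ (FibSite.functorPushforward_mem_totalTopology hR)).ext fun X g hg => ?_
  obtain ⟨W, l, u, hl, rfl⟩ := hg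
  simp only [op_comp, Functor.map_comp_apply, h l hl]

end Separation

section Image

variable {P : (∫ᶜ F)ᵒᵖ ⥤ Type w} {S T : 𝒮} (b : T ⟶ S) {U : F.obj ⟨op S⟩} {R : Presieve U}
  (x : Presieve.FamilyOfElements ((ι F S).op ⋙ P) R)

/-- Generators for the image of a family along `b`. -/
structure Gen (V : F.obj ⟨op T⟩) : Type (max u₂ v₂) where
  /-- the source in the fibre over `S` -/
  A : F.obj ⟨op S⟩
  /-- the arrow -/
  r : A ⟶ U
  /-- it belongs to the presieve -/
  hr : R r
  /-- the vertical arrow -/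
  k : V ⟶ (FibSite.invImage F b).obj A

variable {b}

/-- The element defined by a generator. -/
def Gen.val {V : F.obj ⟨op T⟩} (p : Gen (R := R) b V) : P.obj (op ((ι F T).obj V)) :=
  P.map (hom b p.k).op (x p.r p.hr)

/-- Equality of the defined elements. -/
def genSetoid (V : F.obj ⟨op T⟩) : Setoid (Gen (R := R) b V) :=
  Setoid.ker (Gen.val x)

/-- A small presheaf isomorphic to the image of the family along `b`. -/
def imagePresheaf : (F.obj ⟨op T⟩)ᵒᵖ ⥤ Type (max u₂ v₂) where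
  obj V := Quotient (genSetoid (b := b) x V.unop)
  map {V W} h := ↾(Quotient.map (fun p => ⟨p.A, p.r, p.hr, h.unop ≫ p.k⟩) fun p q hpq => by
    change P.map _ _ = P.map _ _
    rw [← ι_map_comp_hom, ← ι_map_comp_hom, op_comp, op_comp, Functor.map_comp_apply,
      Functor.map_comp_apply]
    exact congrArg _ hpq)
  map_id V := by
    ext ⟨p⟩
    exact congrArg (Quotient.mk _) (by simp)
  map_comp f g := by
    ext ⟨p⟩
    exact congrArg (Quotient.mk _) (by simp)

variable (hF : FibSite.IsPreFibSite F J) (hP : Presieve.IsSeparated (FibSite.totalTopology F J) P)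
  (hR : Sieve.generate R ∈ J S U) (hx : x.Compatible)

include hF hP hR hx in
lemma val_eq_of_comp_eq {V : F.obj ⟨op T⟩} {A A' : F.obj ⟨op S⟩}
    {k : V ⟶ (FibSite.invImage F b).obj A} {k' : V ⟶ (FibSite.invImage F b).obj A'}
    {r : A ⟶ U} {r' : A' ⟶ U} (hr : R r) (hr' : R r')
    (he : k ≫ (FibSite.invImage F b).map r = k' ≫ (FibSite.invImage F b).map r') :
    P.map (hom b k).op (x r hr) = P.map (hom b k').op (x r' hr') := by
  haveI := hF b
  let Q₀ := imagePresheaf (b := b) x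
  let η := CategoryTheory.toSheafify (J T) Q₀
  haveI : Presheaf.IsLocallyInjective (J T) η :=
    inferInstanceAs (Presheaf.IsLocallyInjective (J T) (CategoryTheory.toSheafify (J T) Q₀))
  let Q := CategoryTheory.sheafify (J T) Q₀
  have hQ : Presieve.IsSheaf (J S) ((FibSite.invImage F b).op ⋙ Q) :=
    (FibSite.invImage F b).op_comp_isSheaf_of_isSheaf_type (J S) (K := J T)
      ((isSheaf_iff_isSheaf_of_type _ _).1 ((presheafToSheaf (J T) (Type (max u₂ v₂))).obj Q₀).property)
  let y : Presieve.FamilyOfElements ((FibSite.invImage F b).op ⋙ Q) R := fun A r hr =>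
    η.app (op ((FibSite.invImage F b).obj A)) (Quotient.mk _ ⟨A, r, hr, 𝟙 _⟩)
  have hy : y.Compatible := by
    intro A₁ A₂ B g₁ g₂ f₁ f₂ h₁ h₂ e
    change Q.map ((FibSite.invImage F b).map g₁).op (η.app _ _) =
      Q.map ((FibSite.invImage F b).map g₂).op (η.app _ _)
    rw [← NatTrans.naturality_apply η, ← NatTrans.naturality_apply η]
    refine congrArg _ (Quotient.sound ?_)
    change P.map _ _ = P.map _ _
    dsimp only [Quiver.Hom.unop_op]
    rw [Category.comp_id, Category.comp_id, ← Category.id_comp ((FibSite.invImage F b).map g₁),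
      ← Category.id_comp ((FibSite.invImage F b).map g₂), ← hom_comp_ι_map, ← hom_comp_ι_map,
      op_comp, op_comp]
    erw [Functor.map_comp_apply, Functor.map_comp_apply]
    exact congrArg _ (hx g₁ g₂ h₁ h₂ e)
  have hf : Presieve.IsSheafFor ((FibSite.invImage F b).op ⋙ Q) R :=
    (Presieve.isSheafFor_iff_generate R).2 (hQ _ hR)
  have e₁ : Q.map k.op (y r hr) = Q.map k'.op (y r' hr') := by
    rw [← hf.valid_glue hy r hr, ← hf.valid_glue hy r' hr']
    change Q.map k.op (Q.map ((FibSite.invImage F b).map r).op _) =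
      Q.map k'.op (Q.map ((FibSite.invImage F b).map r').op _)
    rw [← Functor.map_comp_apply, ← Functor.map_comp_apply, ← op_comp, ← op_comp, he]
  change Q.map k.op (η.app _ _) = Q.map k'.op (η.app _ _) at e₁
  rw [← NatTrans.naturality_apply η, ← NatTrans.naturality_apply η] at e₁
  refine separated_fibre hP (Presheaf.equalizerSieve_mem (J T) η _ _ e₁) _ _ fun W l hl => ?_
  have hl' := Quotient.exact hl
  change P.map _ _ = P.map _ _ at hl'
  dsimp only [Quiver.Hom.unop_op] at hl'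
  rw [Category.comp_id, Category.comp_id, ← ι_map_comp_hom, ← ι_map_comp_hom, op_comp, op_comp,
    Functor.map_comp_apply, Functor.map_comp_apply] at hl'
  exact hl'

include hF hP hR hx in
lemma map_eq_of_comp_eq {Z : ∫ᶜ F} {A A' : F.obj ⟨op S⟩} {u : Z ⟶ (ι F S).obj A}
    {u' : Z ⟶ (ι F S).obj A'} {r : A ⟶ U} {r' : A' ⟶ U} (hr : R r) (hr' : R r')
    (he : u ≫ (ι F S).map r = u' ≫ (ι F S).map r') :
    P.map u.op (x r hr) = P.map u'.op (x r' hr') := by
  obtain ⟨T', V⟩ := Z
  obtain ⟨b, k, rfl⟩ := exists_hom (W := V) u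
  obtain ⟨b', k', rfl⟩ := exists_hom (W := V) u'
  rw [hom_comp_ι_map, hom_comp_ι_map] at he
  obtain rfl : b = b' := congrArg (fun g => g.base) he
  exact val_eq_of_comp_eq x hF hP hR hx hr hr' (hom_injective b he)

end Image

lemma isSheaf_fibre_of_isSheaf (hF : FibSite.IsPreFibSite F J) {P : (∫ᶜ F)ᵒᵖ ⥤ Type w}
    (hP : Presieve.IsSheaf (FibSite.totalTopology F J) P) (S : 𝒮) :
    Presieve.IsSheaf (J S) ((ι F S).op ⋙ P) := by
  intro U R hR x hx
  have hR' : Sieve.generate (R : Presieve U) ∈ J S U := by rwa [Sieve.generate_sieve]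
  have hPsep : Presieve.IsSeparated (FibSite.totalTopology F J) P := hP.isSeparated
  have hpush := FibSite.functorPushforward_mem_totalTopology (F := F) (J := J) hR
  let x' : Presieve.FamilyOfElements P (R.functorPushforward (ι F S)).arrows := fun Z g hg =>
    P.map hg.choose_spec.choose_spec.choose.op
      (x hg.choose_spec.choose hg.choose_spec.choose_spec.choose_spec.1)
  have hx'eq : ∀ {Z} (g : Z ⟶ (ι F S).obj U) (hg : R.functorPushforward (ι F S) g)
      {A} (r : A ⟶ U) (hr : R r) (u : Z ⟶ (ι F S).obj A), g = u ≫ (ι F S).map r →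
      x' g hg = P.map u.op (x r hr) := by
    intro Z g hg A r hr u e
    exact map_eq_of_comp_eq x hF hPsep hR' hx hg.choose_spec.choose_spec.choose_spec.1 hr
      (hg.choose_spec.choose_spec.choose_spec.2.symm.trans e)
  have hx' : x'.Compatible := by
    intro Z₁ Z₂ W g₁ g₂ f₁ f₂ h₁ h₂ e
    obtain ⟨A₁, r₁, u₁, hr₁, e₁⟩ := id h₁
    obtain ⟨A₂, r₂, u₂, hr₂, e₂⟩ := id h₂
    rw [hx'eq f₁ h₁ r₁ hr₁ u₁ e₁, hx'eq f₂ h₂ r₂ hr₂ u₂ e₂, ← Functor.map_comp_apply,
      ← Functor.map_comp_apply, ← op_comp, ← op_comp]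
    refine map_eq_of_comp_eq x hF hPsep hR' hx hr₁ hr₂ ?_
    rw [Category.assoc, Category.assoc, ← e₁, ← e₂, e]
  refine ⟨(hP _ hpush).amalgamate x' hx', fun A r hr => ?_, fun y hy => ?_⟩
  · refine ((hP _ hpush).valid_glue hx' ((ι F S).map r)
      ⟨A, r, 𝟙 _, hr, (Category.id_comp _).symm⟩).trans ?_
    rw [hx'eq _ _ r hr (𝟙 _) (Category.id_comp _).symm]
    simp
  · refine (hP _ hpush).isSeparatedFor.ext fun Z g hg => ?_
    rw [(hP _ hpush).valid_glue hx' g hg]
    obtain ⟨A, r, u, hr, e⟩ := id hg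
    rw [hx'eq g hg r hr u e, e, op_comp, Functor.map_comp_apply]
    exact congrArg _ (hy r hr)

lemma ι_isContinuous (hF : FibSite.IsPreFibSite F J) (S : 𝒮) :
    (ι F S).IsContinuous (J S) (FibSite.totalTopology F J) :=
  ⟨fun G => isSheaf_fibre_of_isSheaf hF ((isSheaf_iff_isSheaf_of_type _ _).1 G.property) S⟩

lemma isSheaf_of_isSheaf_fibre (hF : FibSite.IsPreFibSite F J) {P : (∫ᶜ F)ᵒᵖ ⥤ Type w}
    (hP : ∀ S : 𝒮, Presieve.IsSheaf (J S) ((ι F S).op ⋙ P)) :
    Presieve.IsSheaf (FibSite.totalTopology F J) P := by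
  rintro ⟨S, U⟩ T hT x hx
  obtain ⟨R, hR, hRT⟩ := (mem_totalTopology_iff J hF ⟨S, U⟩ T).1 hT
  have hle : ∀ {A} (r : A ⟶ U), R r → T ((ι F S).map r) := fun r hr =>
    hRT _ ⟨_, r, 𝟙 _, hr, (Category.id_comp _).symm⟩
  let x₀ : Presieve.FamilyOfElements ((ι F S).op ⋙ P) R.arrows := fun A r hr => x _ (hle r hr)
  have hx₀ : x₀.Compatible := by
    intro A₁ A₂ B g₁ g₂ f₁ f₂ h₁ h₂ e
    exact hx _ _ _ _ (((ι F S).map_comp _ _).symm.trans
      ((congrArg (ι F S).map e).trans ((ι F S).map_comp _ _)))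
  refine ⟨(hP S R hR).amalgamate x₀ hx₀, fun Z g hg => ?_, fun y hy => ?_⟩
  · obtain ⟨T', V⟩ := Z
    have hcov := (mem_totalTopology_iff_functorPullback J hF T' V _).1
      ((FibSite.totalTopology F J).pullback_stable g
        (FibSite.functorPushforward_mem_totalTopology hR))
    refine ((hP T').isSeparated _ hcov).ext fun W l hl => ?_
    obtain ⟨A, r, u, hr, e⟩ := hl
    change P.map ((ι F T').map l).op (P.map g.op _) = P.map ((ι F T').map l).op (x g hg)
    erw [← Functor.map_comp_apply]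
    rw [← op_comp, show (ι F T').map l ≫ g = u ≫ (ι F S).map r from e,
      op_comp]
    erw [Functor.map_comp_apply]
    exact (congrArg _ ((hP S R hR).valid_glue hx₀ r hr)).trans (hx _ _ _ _ e.symm)
  · refine ((hP S).isSeparated R hR).ext fun A r hr => ?_
    exact (hy _ (hle r hr)).trans ((hP S R hR).valid_glue hx₀ r hr).symm

lemma isSheaf_iff (hF : FibSite.IsPreFibSite F J) {A : Type u₃} [Category.{v₃} A]
    (P : (∫ᶜ F)ᵒᵖ ⥤ A) :
    Presheaf.IsSheaf (FibSite.totalTopology F J) P ↔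
      ∀ S : 𝒮, Presheaf.IsSheaf (J S) ((ι F S).op ⋙ P) :=
  ⟨fun h S E => isSheaf_fibre_of_isSheaf hF (P := P ⋙ coyoneda.obj (op E)) (h E) S,
    fun h E => isSheaf_of_isSheaf_fibre hF (P := P ⋙ coyoneda.obj (op E)) fun S => h S E⟩

lemma isContinuous_iff (hF : FibSite.IsPreFibSite F J) {D : Type u₃} [Category.{v₃} D]
    (K : GrothendieckTopology D) (m : ∫ᶜ F ⥤ D) :
    m.IsContinuous (FibSite.totalTopology F J) K ↔
      ∀ S : 𝒮, (ι F S ⋙ m).IsContinuous (J S) K := by
  refine ⟨fun h S => ?_, fun h => ⟨fun G => ?_⟩⟩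
  · haveI := ι_isContinuous hF S
    exact Functor.isContinuous_comp (ι F S) m _ (FibSite.totalTopology F J) _
  · refine isSheaf_of_isSheaf_fibre hF (P := m.op ⋙ G.obj) fun S => ?_
    haveI := h S
    exact (ι F S ⋙ m).op_comp_isSheaf_of_types (J S) K G

end Groth.Agent.FibSite
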