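import Groth.Prelude.Def_FibSite
import Mathlib.CategoryTheory.Sites.CoverPreserving
import Mathlib.CategoryTheory.Sites.InducedTopology

/-!
# Morphisms of the total category and covering sieves of the total topology
-/

set_option backward.isDefEq.respectTransparency false
set_option backward.isDefEq.respectTransparency.types false

universe v₂ u₂ v₁ u₁

open CategoryTheory Opposite Bicategory Pseudofunctor Pseudofunctor.CoGrothendieck

namespace Groth.Agent.FibSite

variable {𝒮 : Type u₁} [Category.{v₁} 𝒮]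
  {F : Pseudofunctor (LocallyDiscrete 𝒮ᵒᵖ) Cat.{v₂, u₂}}

/-- The morphism of the total category with the given base and fibre components. -/
abbrev hom {R S : 𝒮} (b : R ⟶ S) {W : F.obj ⟨op R⟩} {U : F.obj ⟨op S⟩}
    (k : W ⟶ (FibSite.invImage F b).obj U) : (ι F R).obj W ⟶ (ι F S).obj U :=
  ⟨b, k⟩

/-- The cartesian morphism. -/
abbrev cart {R S : 𝒮} (b : R ⟶ S) (U : F.obj ⟨op S⟩) :
    (ι F R).obj ((FibSite.invImage F b).obj U) ⟶ (ι F S).obj U :=
  hom b (𝟙 _)

lemma hom_injective {R S : 𝒮} (b : R ⟶ S) {W : F.obj ⟨op R⟩} {U : F.obj ⟨op S⟩}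
    {k k' : W ⟶ (FibSite.invImage F b).obj U} (h : hom b k = hom b k') : k = k' := by
  simpa using Hom.congr h

lemma exists_hom {R S : 𝒮} {W : F.obj ⟨op R⟩} {U : F.obj ⟨op S⟩}
    (g : (ι F R).obj W ⟶ (ι F S).obj U) :
    ∃ (b : R ⟶ S) (k : W ⟶ (FibSite.invImage F b).obj U), hom b k = g :=
  ⟨g.base, g.fiber, rfl⟩

lemma ι_map_comp_hom {R S : 𝒮} (b : R ⟶ S) {V W : F.obj ⟨op R⟩} {U : F.obj ⟨op S⟩}
    (h : V ⟶ W) (k : W ⟶ (FibSite.invImage F b).obj U) :
    (ι F R).map h ≫ hom b k = hom b (h ≫ k) := by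
  dsimp [ι]
  ext
  · simp
  · simp [F.mapComp_id_right_inv_app, Strict.rightUnitor_eqToIso, ← NatTrans.naturality_assoc,
      ← Cat.Hom₂.comp_app, PrelaxFunctor.map₂_eqToHom]

lemma hom_comp_ι_map {R S : 𝒮} (b : R ⟶ S) {W : F.obj ⟨op R⟩} {V U : F.obj ⟨op S⟩}
    (k : W ⟶ (FibSite.invImage F b).obj V) (r : V ⟶ U) :
    hom b k ≫ (ι F S).map r = hom b (k ≫ (FibSite.invImage F b).map r) := by
  dsimp [ι]
  ext
  · simp
  · simp [F.mapComp_id_left_inv_app, Strict.leftUnitor_eqToIso, ← Functor.map_comp_assoc,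
      ← Cat.Hom₂.comp_app, PrelaxFunctor.map₂_eqToHom]

lemma ι_map_comp_cart {R S : 𝒮} (b : R ⟶ S) {W : F.obj ⟨op R⟩} {U : F.obj ⟨op S⟩}
    (k : W ⟶ (FibSite.invImage F b).obj U) : (ι F R).map k ≫ cart b U = hom b k := by
  rw [ι_map_comp_hom, Category.comp_id]

lemma cart_naturality {R S : 𝒮} (b : R ⟶ S) {V U : F.obj ⟨op S⟩} (r : V ⟶ U) :
    cart b V ≫ (ι F S).map r = (ι F R).map ((FibSite.invImage F b).map r) ≫ cart b U := by
  rw [hom_comp_ι_map, ι_map_comp_cart, Category.id_comp]

lemma ι_map_injective {S : 𝒮} {V U : F.obj ⟨op S⟩} {r r' : V ⟶ U}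
    (h : (ι F S).map r = (ι F S).map r') : r = r' := by
  have h' := hom_injective (𝟙 S) (k := r ≫ (F.mapId ⟨op S⟩).inv.toNatTrans.app U)
    (k' := r' ≫ (F.mapId ⟨op S⟩).inv.toNatTrans.app U) h
  exact (cancel_mono ((Cat.Hom.toNatIso (F.mapId ⟨op S⟩)).app U).inv).1 h'

lemma exists_ι_map {S : 𝒮} {V U : F.obj ⟨op S⟩} (g : (ι F S).obj V ⟶ (ι F S).obj U)
    (hg : g.base = 𝟙 S) : ∃ r : V ⟶ U, (ι F S).map r = g := by
  obtain ⟨b, k, rfl⟩ := exists_hom g
  obtain rfl : b = 𝟙 S := hg
  refine ⟨k ≫ (F.mapId ⟨op S⟩).hom.toNatTrans.app U, ?_⟩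
  dsimp [ι]
  ext
  · simp
  · simp [← Cat.Hom₂.comp_app]
    exact Category.comp_id k

/-- The preimage of the sieve generated by the image of a sieve of a fibre is that sieve. -/
lemma functorPullback_functorPushforward {S : 𝒮} {U : F.obj ⟨op S⟩} (R : Sieve U) :
    (R.functorPushforward (ι F S)).functorPullback (ι F S) = R := by
  refine le_antisymm ?_ (Sieve.le_functorPushforward_pullback (ι F S) R)
  intro V h hh
  obtain ⟨A, r, u, hr, hu⟩ := hh
  have hb : u.base = 𝟙 S := by
    have := congrArg (fun g => g.base) hu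
    exact ((Category.comp_id _).symm.trans this.symm)
  obtain ⟨r', rfl⟩ := exists_ι_map u hb
  rw [← Functor.map_comp] at hu
  rw [ι_map_injective hu]
  exact R.downward_closed hr r'

variable (J : FibSite.Topologies F)

/-- The topology on the total category given by the explicit description of covering sieves. -/
def explicitTopology (hF : FibSite.IsPreFibSite F J) : GrothendieckTopology (∫ᶜ F) where
  sieves X := {S | Sieve.functorPullback (ι F X.base) (X := X.fiber) S ∈ J X.base X.fiber}
  top_mem' X := by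
    change Sieve.functorPullback (ι F X.base) (X := X.fiber) ⊤ ∈ J X.base X.fiber
    rw [Sieve.functorPullback_top]
    exact (J X.base).top_mem _
  pullback_stable' := by
    rintro ⟨S, U⟩ ⟨R, W⟩ T f hT
    change Sieve.functorPullback (ι F R) (X := W) (T.pullback f) ∈ J R W
    change Sieve.functorPullback (ι F S) (X := U) T ∈ J S U at hT
    obtain ⟨b, k, rfl⟩ := exists_hom (W := W) (U := U) f
    haveI := hF b
    refine (J R).superset_covering ?_ ((J R).pullback_stable k
      ((CoverPreserving.of_isContinuous (J := J S) (K := J R)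
        (FibSite.invImage F b)).cover_preserve hT))
    rintro V h ⟨A, r, l, hr, hl⟩
    change T.arrows ((ι F R).map h ≫ hom b k)
    rw [ι_map_comp_hom, hl, ← hom_comp_ι_map]
    exact T.downward_closed hr _
  transitive' := by
    rintro ⟨S, U⟩ T hT T' hT'
    change Sieve.functorPullback (ι F S) (X := U) T' ∈ J S U
    refine (J S).transitive hT _ fun V r hr => ?_
    have h2 : Sieve.functorPullback (ι F S) (X := V) (T'.pullback ((ι F S).map r)) ∈ J S V :=
      hT' hr
    refine (J S).superset_covering (fun W h hh => ?_) h2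
    change T'.arrows ((ι F S).map (h ≫ r))
    rw [Functor.map_comp]
    exact hh

lemma totalTopology_eq (hF : FibSite.IsPreFibSite F J) :
    FibSite.totalTopology F J = explicitTopology J hF := by
  refine le_antisymm (FibSite.totalTopology_le fun S U R hR => ?_) ?_
  · exact (J S).superset_covering (Sieve.le_functorPushforward_pullback (ι F S) R) hR
  · rintro ⟨S, U⟩ T hT
    exact (FibSite.totalTopology F J).superset_covering
      ((Sieve.functor_galoisConnection (ι F S) U).l_u_le T)
      (FibSite.functorPushforward_mem_totalTopology hT)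

lemma mem_totalTopology_iff_functorPullback (hF : FibSite.IsPreFibSite F J) (S : 𝒮)
    (U : F.obj ⟨op S⟩) (T : Sieve ((ι F S).obj U)) :
    T ∈ FibSite.totalTopology F J _ ↔ T.functorPullback (ι F S) ∈ J S U := by
  rw [totalTopology_eq J hF]
  rfl

lemma mem_totalTopology_iff (hF : FibSite.IsPreFibSite F J) (X : ∫ᶜ F) (T : Sieve X) :
    T ∈ FibSite.totalTopology F J X ↔
      ∃ R ∈ J X.base X.fiber, Sieve.functorPushforward (ι F X.base) R ≤ T := by
  constructor
  · intro hT
    exact ⟨_, (mem_totalTopology_iff_functorPullback J hF X.base X.fiber T).1 hT,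
      (Sieve.functor_galoisConnection (ι F X.base) X.fiber).l_u_le T⟩
  · rintro ⟨R, hR, h⟩
    exact (FibSite.totalTopology F J).superset_covering h
      (FibSite.functorPushforward_mem_totalTopology hR)

lemma ι_isCocontinuous (hF : FibSite.IsPreFibSite F J) (S : 𝒮) :
    (ι F S).IsCocontinuous (J S) (FibSite.totalTopology F J) :=
  ⟨fun h => (mem_totalTopology_iff_functorPullback J hF S _ _).1 h⟩

lemma mem_of_functorPushforward_mem (hF : FibSite.IsPreFibSite F J) {S : 𝒮} {U : F.obj ⟨op S⟩}
    {R : Sieve U} (h : R.functorPushforward (ι F S) ∈ FibSite.totalTopology F J ((ι F S).obj U)) :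
    R ∈ J S U := by
  have := (mem_totalTopology_iff_functorPullback J hF S U _).1 h
  rwa [functorPullback_functorPushforward] at this

end Groth.Agent.FibSite
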