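import Groth.Agent.FibSite.Sheaves
import Mathlib.CategoryTheory.Adjunction.Mates
import Mathlib.CategoryTheory.Adjunction.Triple
import Mathlib.CategoryTheory.Limits.Preserves.Finite

/-!
# Coextension and extension along fibre inclusions
-/

set_option backward.isDefEq.respectTransparency false
set_option backward.isDefEq.respectTransparency.types false

universe w v₃ u₃ v₂ u₂ v₁ u₁ u

open CategoryTheory Limits Opposite Bicategory Pseudofunctor Pseudofunctor.CoGrothendieck

namespace Groth.Agent.FibSite

section General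

variable {C : Type u₁} [Category.{v₁} C] {D : Type u₂} [Category.{v₂} D]

/-- A tuple of natural transformations which is pointwise bijective is a limit fan of sheaves. -/
lemma nonempty_isLimit_fan_of_bijective {J : GrothendieckTopology C} {ι : Type u₃}
    {Q : ι → Sheaf J (Type w)} {P : Sheaf J (Type w)} (p : ∀ b, P ⟶ Q b)
    (h : ∀ U : C, Function.Bijective
      (fun (x : P.obj.obj (op U)) (b : ι) => (p b).hom.app (op U) x)) :
    Nonempty (IsLimit (Fan.mk P p)) := by
  have key : ∀ (s : Fan Q) (U : Cᵒᵖ) (x : s.pt.obj.obj U),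
      ∃ y : P.obj.obj U, ∀ b, (p b).hom.app U y = (s.proj b).hom.app U x := fun s U x => by
    obtain ⟨y, hy⟩ := (h U.unop).2 fun b => (s.proj b).hom.app U x
    exact ⟨y, congrFun hy⟩
  choose f hf using key
  refine ⟨mkFanLimit _ (fun s => ⟨{ app := fun U => ↾(f s U), naturality := ?_ }⟩) ?_ ?_⟩
  · intro U V i
    ext x
    refine (h V.unop).1 (funext fun b => ?_)
    refine (hf s V _ b).trans (((NatTrans.naturality_apply (s.proj b).hom i x).trans ?_).trans
      (NatTrans.naturality_apply (p b).hom i (f s U x)).symm)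
    exact congrArg _ (hf s U x b).symm
  · intro s b
    ext U x
    exact hf s U x b
  · intro s m hm
    ext U x
    refine (h U.unop).1 (funext fun b => ?_)
    refine Eq.trans ?_ (hf s U x b).symm
    exact congrArg (fun g => g.hom.app U x) (hm b)

variable {ι : Type u₃} {L : C ⥤ D} {R : D ⥤ C} (adj : L ⊣ R)
  {Lb : ι → C ⥤ D} {Rb : ι → D ⥤ C} (adjb : ∀ b, Lb b ⊣ Rb b) (p : ∀ b, R ⟶ Rb b)

/-- If the right adjoint is a product of right adjoints, the left adjoint is the coproduct. -/
lemma nonempty_isColimit_cofan_of_isLimit_fan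
    (hp : ∀ G : D, Nonempty (IsLimit (Fan.mk (R.obj G) fun b => (p b).app G))) (a : C) :
    Nonempty (IsColimit (Cofan.mk (L.obj a)
      fun b => ((conjugateEquiv adj (adjb b)).symm (p b)).app a)) := by
  have key : ∀ (G : D) (b : ι) (h : L.obj a ⟶ G),
      (adjb b).homEquiv a G (((conjugateEquiv adj (adjb b)).symm (p b)).app a ≫ h) =
        adj.homEquiv a G h ≫ (p b).app G := by
    intro G b h
    rw [Adjunction.homEquiv_unit, Adjunction.homEquiv_unit, Functor.map_comp,
      ← reassoc_of% (unit_conjugateEquiv_symm adj (adjb b) (p b) a), ← (p b).naturality,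
      Category.assoc]
  refine ⟨mkCofanColimit _
    (fun s => (adj.homEquiv a s.pt).symm ((hp s.pt).some.lift
      (Fan.mk a fun b => (adjb b).homEquiv a s.pt (s.inj b)))) ?_ ?_⟩
  · intro s b
    refine ((adjb b).homEquiv a s.pt).injective ?_
    refine (key _ b _).trans ?_
    rw [Equiv.apply_symm_apply]
    exact (hp s.pt).some.fac _ ⟨b⟩
  · intro s m hm
    refine (Equiv.apply_eq_iff_eq_symm_apply (adj.homEquiv a s.pt)).1 ?_
    refine (hp s.pt).some.hom_ext fun ⟨b⟩ => ?_
    rw [(hp s.pt).some.fac]
    exact (key _ b m).symm.trans (congrArg _ (hm b))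

end General

section Cart

variable {𝒮 : Type u₁} [Category.{v₁} 𝒮]
  {F : Pseudofunctor (LocallyDiscrete 𝒮ᵒᵖ) Cat.{v₂, u₂}} {R S : 𝒮}

/-- The cartesian morphisms as a natural transformation. -/
def cartNat (b : R ⟶ S) : FibSite.invImage F b ⋙ ι F R ⟶ ι F S where
  app U := cart b U
  naturality _ _ r := (cart_naturality b r).symm

variable [∀ P : (F.obj ⟨op R⟩)ᵒᵖ ⥤ Type w, (ι F R).op.HasPointwiseRightKanExtension P]

/-- The projection of a coextension onto its factor of index `b`. -/
noncomputable def projPre (b : R ⟶ S) (G : (F.obj ⟨op R⟩)ᵒᵖ ⥤ Type w) :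
    (ι F S).op ⋙ (ι F R).op.ran.obj G ⟶ (FibSite.invImage F b).op ⋙ G :=
  Functor.whiskerRight (NatTrans.op (cartNat b)) ((ι F R).op.ran.obj G) ≫
    Functor.whiskerLeft (FibSite.invImage F b).op ((ι F R).op.ranCounit.app G)

lemma projPre_app (b : R ⟶ S) (G : (F.obj ⟨op R⟩)ᵒᵖ ⥤ Type w) (U : F.obj ⟨op S⟩)
    (x : ((ι F R).op.ran.obj G).obj (op ((ι F S).obj U))) :
    (projPre b G).app (op U) x = ((ι F R).op.ranCounit.app G).app _
      (((ι F R).op.ran.obj G).map (cart b U).op x) :=
  rfl

lemma projPre_naturality (b : R ⟶ S) {G G' : (F.obj ⟨op R⟩)ᵒᵖ ⥤ Type w} (φ : G ⟶ G') :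
    Functor.whiskerLeft (ι F S).op ((ι F R).op.ran.map φ) ≫ projPre b G' =
      projPre b G ≫ Functor.whiskerLeft (FibSite.invImage F b).op φ := by
  ext U x
  refine (congrArg (((ι F R).op.ranCounit.app G').app _)
    (NatTrans.naturality_apply ((ι F R).op.ran.map φ) (cart b U.unop).op x).symm).trans ?_
  exact congrArg (fun t => t.app (op ((FibSite.invImage F b).obj U.unop))
    (((ι F R).op.ran.obj G).map (cart b U.unop).op x)) ((ι F R).op.ranCounit.naturality φ)

lemma projPre_bijective (G : (F.obj ⟨op R⟩)ᵒᵖ ⥤ Type w) (U : F.obj ⟨op S⟩) :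
    Function.Bijective (fun (x : ((ι F R).op.ran.obj G).obj (op ((ι F S).obj U))) (b : R ⟶ S) =>
      (projPre b G).app (op U) x) := by
  set ε := (ι F R).op.ranCounit.app G
  have hlim := (ι F R).op.isPointwiseRightKanExtensionRanCounit G (op ((ι F S).obj U))
  have hproj : ∀ (x : ((ι F R).op.ran.obj G).obj (op ((ι F S).obj U))) {W : F.obj ⟨op R⟩}
      (b : R ⟶ S) (k : W ⟶ (FibSite.invImage F b).obj U),
      ε.app (op W) (((ι F R).op.ran.obj G).map (hom b k).op x) =
        G.map k.op ((projPre b G).app (op U) x) := by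
    intro x W b k
    rw [← ι_map_comp_cart b k, op_comp, Functor.map_comp_apply]
    exact NatTrans.naturality_apply ε k.op _
  constructor
  · intro x y hxy
    refine (Types.isLimitEquivSections hlim).injective (Subtype.ext (funext fun j => ?_))
    obtain ⟨b, k, hk⟩ := exists_hom (W := j.right.unop) (U := U) j.hom.unop
    rw [Types.isLimitEquivSections_apply, Types.isLimitEquivSections_apply]
    change ε.app (op j.right.unop) (((ι F R).op.ran.obj G).map j.hom.unop.op x) =
      ε.app (op j.right.unop) (((ι F R).op.ran.obj G).map j.hom.unop.op y)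
    rw [← hk]
    exact (hproj x b k).trans ((congrArg _ (congrFun hxy b)).trans (hproj y b k).symm)
  · intro z
    let sec : ∀ j : StructuredArrow (op ((ι F S).obj U)) (ι F R).op, G.obj j.right := fun j =>
      G.map (show j.right.unop ⟶ (FibSite.invImage F j.hom.unop.base).obj U from
        j.hom.unop.fiber).op (z j.hom.unop.base)
    have hsec : sec ∈ (StructuredArrow.proj (op ((ι F S).obj U)) (ι F R).op ⋙ G).sections := by
      intro j j' a
      obtain ⟨b, k, hk⟩ := exists_hom (W := j.right.unop) (U := U) j.hom.unop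
      have hj' : j'.hom.unop = hom b (a.right.unop ≫ k) := by
        rw [← ι_map_comp_hom, hk, ← StructuredArrow.w a]
        rfl
      dsimp only [sec]
      rw [hj', ← hk]
      change G.map a.right.unop.op (G.map k.op (z b)) = G.map (a.right.unop ≫ k).op (z b)
      rw [op_comp, Functor.map_comp_apply]
    refine ⟨(Types.isLimitEquivSections hlim).symm ⟨sec, hsec⟩, funext fun b => ?_⟩
    refine (Types.isLimitEquivSections_symm_apply hlim ⟨sec, hsec⟩
      (StructuredArrow.mk (cart b U).op)).trans ?_
    change G.map (𝟙 ((FibSite.invImage F b).obj U)).op (z b) = z b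
    simp

end Cart

section SheafLevel

variable {𝒮 : Type u} [SmallCategory 𝒮]
  {F : Pseudofunctor (LocallyDiscrete 𝒮ᵒᵖ) Cat.{u, u}} (J : FibSite.Topologies F)
  (i j : 𝒮)
  [(ι F i).IsContinuous (J i) (FibSite.totalTopology F J)]

section

variable [(ι F j).IsCocontinuous (J j) (FibSite.totalTopology F J)]
  [∀ P : (F.obj ⟨op j⟩)ᵒᵖ ⥤ Type u, (ι F j).op.HasPointwiseRightKanExtension P]

/-- The projection of a coextension of sheaves onto its factor of index `b`. -/
noncomputable def proj (b : j ⟶ i) [(FibSite.invImage F b).IsContinuous (J i) (J j)] :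
    FibSite.coextend F J (Type u) j ⋙ FibSite.restr F J (Type u) i ⟶
      (FibSite.invImage F b).sheafPushforwardContinuous (Type u) (J i) (J j) where
  app G := ⟨projPre b G.obj⟩
  naturality G G' φ := by
    ext1
    exact projPre_naturality b φ.hom

variable [∀ (b : j ⟶ i), (FibSite.invImage F b).IsContinuous (J i) (J j)]

lemma nonempty_isLimit_proj (G : Sheaf (J j) (Type u)) :
    Nonempty (IsLimit (Fan.mk
      ((FibSite.coextend F J (Type u) j ⋙ FibSite.restr F J (Type u) i).obj G)
      fun b : j ⟶ i => (proj J i j b).app G)) :=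
  nonempty_isLimit_fan_of_bijective _ fun U => projPre_bijective G.obj U

end

variable [∀ S : 𝒮, (ι F S).IsCocontinuous (J S) (FibSite.totalTopology F J)]
  [(ι F j).IsContinuous (J j) (FibSite.totalTopology F J)]
  [((ι F i).sheafPushforwardContinuous (Type u) (J i) (FibSite.totalTopology F J)).IsRightAdjoint]

/-- Extension followed by restriction has coextension followed by restriction as right adjoint. -/
noncomputable def extendRestrAdj :
    FibSite.extend F J (Type u) i ⋙ FibSite.restr F J (Type u) j ⊣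
      FibSite.coextend F J (Type u) j ⋙ FibSite.restr F J (Type u) i :=
  ((ι F i).sheafAdjunctionContinuous (Type u) (J i) (FibSite.totalTopology F J)).comp
    ((ι F j).sheafAdjunctionCocontinuous (Type u) (J j) (FibSite.totalTopology F J))

variable [∀ (b : j ⟶ i), (FibSite.invImage F b).IsContinuous (J i) (J j)]
  [∀ (b : j ⟶ i),
    ((FibSite.invImage F b).sheafPushforwardContinuous (Type u) (J i) (J j)).IsRightAdjoint]

/-- The inclusion of the summand of index `b` into an extension. -/
noncomputable def incl (b : j ⟶ i) :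
    (FibSite.invImage F b).sheafPullback (Type u) (J i) (J j) ⟶
      FibSite.extend F J (Type u) i ⋙ FibSite.restr F J (Type u) j :=
  (conjugateEquiv (extendRestrAdj J i j)
    ((FibSite.invImage F b).sheafAdjunctionContinuous (Type u) (J i) (J j))).symm (proj J i j b)

lemma nonempty_isColimit_incl (a : Sheaf (J i) (Type u)) :
    Nonempty (IsColimit (Cofan.mk
      ((FibSite.extend F J (Type u) i ⋙ FibSite.restr F J (Type u) j).obj a)
      fun b : j ⟶ i => (incl J i j b).app a)) :=
  nonempty_isColimit_cofan_of_isLimit_fan (extendRestrAdj J i j)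
    (fun b : j ⟶ i => (FibSite.invImage F b).sheafAdjunctionContinuous (Type u) (J i) (J j))
    (fun b => proj J i j b) (nonempty_isLimit_proj J i j) a

lemma isIso_incl [Subsingleton (j ⟶ i)] (b : j ⟶ i) : IsIso (incl J i j b) := by
  haveI : IsIso (proj J i j b) := by
    refine @NatIso.isIso_of_isIso_app _ _ _ _ _ _ _ fun G => ?_
    refine @CategoryTheory.Functor.FullyFaithful.isIso_of_isIso_map _ _ _ _
      (sheafToPresheaf _ _) (fullyFaithfulSheafToPresheaf _ _) _ _ _ ?_
    refine @NatIso.isIso_of_isIso_app _ _ _ _ _ _ _ fun U => ?_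
    rw [isIso_iff_bijective]
    have h := projPre_bijective (R := j) (S := i) G.obj U.unop
    refine ⟨fun x y hxy => h.1 (funext fun b' => ?_), fun z => ?_⟩
    · rw [Subsingleton.elim b' b]
      exact hxy
    · obtain ⟨x, hx⟩ := h.2 fun b' => (Subsingleton.elim b' b).symm ▸ z
      exact ⟨x, congrFun hx b⟩
  exact conjugateEquiv_symm_iso _ _ _

end SheafLevel

section Total

variable {𝒮 : Type u} [SmallCategory 𝒮]
  {F : Pseudofunctor (LocallyDiscrete 𝒮ᵒᵖ) Cat.{u, u}} {J : FibSite.Topologies F}
  (hF : FibSite.IsPreFibSite F J)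

include hF in
lemma isRightAdjoint_restr (S : 𝒮) [(ι F S).IsContinuous (J S) (FibSite.totalTopology F J)] :
    (FibSite.restr F J (Type u) S).IsLeftAdjoint ∧
      (FibSite.restr F J (Type u) S).IsRightAdjoint :=
  haveI := ι_isCocontinuous J hF S
  ⟨((ι F S).sheafAdjunctionCocontinuous (Type u) (J S)
    (FibSite.totalTopology F J)).isLeftAdjoint, inferInstance⟩

variable [∀ S : 𝒮, (ι F S).IsContinuous (J S) (FibSite.totalTopology F J)]

lemma isIso_of_isIso_restr {P Q : FibSite.TotSh F J (Type u)} (f : P ⟶ Q)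
    (h : ∀ S : 𝒮, IsIso ((FibSite.restr F J (Type u) S).map f)) : IsIso f := by
  refine @CategoryTheory.Functor.FullyFaithful.isIso_of_isIso_map _ _ _ _
    (sheafToPresheaf _ _) (fullyFaithfulSheafToPresheaf _ _) _ _ _ ?_
  refine @NatIso.isIso_of_isIso_app _ _ _ _ _ _ _ fun X => ?_
  obtain ⟨S, U⟩ := X.unop
  have := h X.unop.base
  exact inferInstanceAs (IsIso
    (((sheafToPresheaf _ _).map ((FibSite.restr F J (Type u) X.unop.base).map f)).app
      (op X.unop.fiber)))

lemma preservesLimitsOfShape_of_restr {C : Type u₁} [Category.{v₁} C] {K : Type} [Category.{0} K]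
    [FinCategory K] (T : C ⥤ FibSite.TotSh F J (Type u))
    (h : ∀ S : 𝒮, PreservesLimitsOfShape K (T ⋙ FibSite.restr F J (Type u) S)) :
    PreservesLimitsOfShape K T where
  preservesLimit {D} := ⟨fun {c} hc => by
    let f := limit.lift (D ⋙ T) (T.mapCone c)
    have : ∀ S : 𝒮, IsIso ((FibSite.restr F J (Type u) S).map f) := fun S => by
      haveI := h S
      have h₁ := isLimitOfPreserves (T ⋙ FibSite.restr F J (Type u) S) hc
      have h₂ := isLimitOfPreserves (FibSite.restr F J (Type u) S) (limit.isLimit (D ⋙ T))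
      have e : (FibSite.restr F J (Type u) S).map f =
          (h₁.conePointUniqueUpToIso (h₂ : IsLimit _)).hom := by
        refine h₂.hom_ext fun k => ?_
        refine Eq.trans ?_ (h₁.conePointUniqueUpToIso_hom_comp h₂ k).symm
        exact ((Functor.map_comp _ _ _).symm).trans
          (congrArg _ (limit.lift_π (T.mapCone c) k))
      rw [e]
      infer_instance
    haveI : IsIso ((limit.isLimit (D ⋙ T)).lift (T.mapCone c)) := isIso_of_isIso_restr f this
    exact ⟨(limit.isLimit (D ⋙ T)).ofPointIso (t := T.mapCone c)⟩⟩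

end Total

end Groth.Agent.FibSite
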