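import Groth.Agent.FibSite.Coext

/-!
# Bicovering morphisms and left Kan extension along fibre inclusions
-/

set_option backward.isDefEq.respectTransparency false
set_option backward.isDefEq.respectTransparency.types false

universe u

open CategoryTheory Limits Opposite Bicategory Pseudofunctor Pseudofunctor.CoGrothendieck

namespace Groth.Agent.FibSite

variable {𝒮 : Type u} [SmallCategory 𝒮]
  {F : Pseudofunctor (LocallyDiscrete 𝒮ᵒᵖ) Cat.{u, u}} {i : 𝒮}

open scoped Classical in
/-- The vertical part of a representative. -/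
noncomputable def degAux (R : (F.obj ⟨op i⟩)ᵒᵖ ⥤ Type u) {V W : F.obj ⟨op i⟩}
    (g : (ι F i).obj V ⟶ (ι F i).obj W) (r : R.obj (op W)) : Option (R.obj (op V)) :=
  if h : g.base = 𝟙 i then some (R.map (exists_ι_map g h).choose.op r) else none

lemma degAux_ι_map (R : (F.obj ⟨op i⟩)ᵒᵖ ⥤ Type u) {V W : F.obj ⟨op i⟩} (a : V ⟶ W)
    (r : R.obj (op W)) : degAux R ((ι F i).map a) r = some (R.map a.op r) := by
  have h : ((ι F i).map a).base = 𝟙 i := rfl
  rw [degAux, dif_pos h, ι_map_injective (exists_ι_map _ h).choose_spec]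

lemma degAux_comp (R : (F.obj ⟨op i⟩)ᵒᵖ ⥤ Type u) {V W W' : F.obj ⟨op i⟩}
    (g : (ι F i).obj V ⟶ (ι F i).obj W') (a : W' ⟶ W) (r : R.obj (op W)) :
    degAux R g (R.map a.op r) = degAux R (g ≫ (ι F i).map a) r := by
  have hb : (g ≫ (ι F i).map a).base = g.base := Category.comp_id g.base
  by_cases h : g.base = 𝟙 i
  · rw [degAux, degAux, dif_pos h, dif_pos (hb.trans h), ← Functor.map_comp_apply, ← op_comp,
      ι_map_injective ((exists_ι_map _ (hb.trans h)).choose_spec.trans (by
        rw [Functor.map_comp, (exists_ι_map g h).choose_spec] : (g ≫ (ι F i).map a) =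
          (ι F i).map ((exists_ι_map g h).choose ≫ a)))]
  · rw [degAux, degAux, dif_neg h, dif_neg (fun h' => h (hb.symm.trans h'))]

lemma degAux_map {R R' : (F.obj ⟨op i⟩)ᵒᵖ ⥤ Type u} (φ : R ⟶ R') {V W : F.obj ⟨op i⟩}
    (g : (ι F i).obj V ⟶ (ι F i).obj W) (r : R.obj (op W)) :
    degAux R' g (φ.app _ r) = (degAux R g r).map (φ.app _) := by
  by_cases h : g.base = 𝟙 i
  · rw [degAux, degAux, dif_pos h, dif_pos h, Option.map_some, NatTrans.naturality_apply]
  · rw [degAux, degAux, dif_neg h, dif_neg h, Option.map_none]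

/-- The cocone defining the degree zero part. -/
noncomputable def degCocone (R : (F.obj ⟨op i⟩)ᵒᵖ ⥤ Type u) (V : F.obj ⟨op i⟩) :
    Cocone (CostructuredArrow.proj (ι F i).op (op ((ι F i).obj V)) ⋙ R) where
  pt := Option (R.obj (op V))
  ι :=
    { app := fun j => ↾(fun r : R.obj j.left => degAux R (W := j.left.unop) j.hom.unop r)
      naturality := fun j j' a => by
        ext r
        change degAux R j'.hom.unop (R.map a.left.unop.op r) = degAux R j.hom.unop r
        rw [degAux_comp]
        congr 1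
        exact congrArg Quiver.Hom.unop (CostructuredArrow.w a) }

/-- The degree zero part of an element of a left Kan extension. -/
noncomputable def deg (R : (F.obj ⟨op i⟩)ᵒᵖ ⥤ Type u) (V : F.obj ⟨op i⟩) :
    ((ι F i).op.lan.obj R).obj (op ((ι F i).obj V)) ⟶ Option (R.obj (op V)) :=
  ((ι F i).op.isPointwiseLeftKanExtensionLeftKanExtensionUnit R
    (op ((ι F i).obj V))).desc (degCocone R V)

lemma deg_rep (R : (F.obj ⟨op i⟩)ᵒᵖ ⥤ Type u) (V : F.obj ⟨op i⟩)
    (j : CostructuredArrow (ι F i).op (op ((ι F i).obj V))) (r : R.obj j.left) :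
    deg R V (((ι F i).op.lan.obj R).map j.hom (((ι F i).op.lanUnit.app R).app j.left r)) =
      degAux R (W := j.left.unop) j.hom.unop r :=
  ConcreteCategory.congr_hom
    (((ι F i).op.isPointwiseLeftKanExtensionLeftKanExtensionUnit R
      (op ((ι F i).obj V))).fac (degCocone R V) j) r

lemma deg_unit (R : (F.obj ⟨op i⟩)ᵒᵖ ⥤ Type u) (V : F.obj ⟨op i⟩) (r : R.obj (op V)) :
    deg R V (((ι F i).op.lanUnit.app R).app (op V) r) = some r := by
  have h := deg_rep R V (CostructuredArrow.mk (Y := op V) (𝟙 ((ι F i).op.obj (op V)))) r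
  simp only [CostructuredArrow.mk_hom_eq_self, CostructuredArrow.mk_left,
    ] at h
  erw [Functor.map_id_apply] at h
  refine h.trans ?_
  rw [show (𝟙 ((ι F i).op.obj (op V))).unop = (ι F i).map (𝟙 V) from ((ι F i).map_id V).symm]
  refine (degAux_ι_map R (𝟙 V) r).trans (congrArg some ?_)
  simp

lemma deg_naturality {R R' : (F.obj ⟨op i⟩)ᵒᵖ ⥤ Type u} (φ : R ⟶ R') (V : F.obj ⟨op i⟩)
    (x : ((ι F i).op.lan.obj R).obj (op ((ι F i).obj V))) :
    deg R' V (((ι F i).op.lan.map φ).app _ x) = (deg R V x).map (φ.app _) := by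
  refine ConcreteCategory.congr_hom (X := ((ι F i).op.lan.obj R).obj (op ((ι F i).obj V)))
    (f := ((ι F i).op.lan.map φ).app _ ≫ deg R' V)
    (g := deg R V ≫ (↾(Option.map (φ.app (op V))))) ?_ x
  refine ((ι F i).op.isPointwiseLeftKanExtensionLeftKanExtensionUnit R
    (op ((ι F i).obj V))).hom_ext fun j => ?_
  refine ConcreteCategory.hom_ext _ _ fun r => ?_
  change deg R' V (((ι F i).op.lan.map φ).app _ (((ι F i).op.lan.obj R).map j.hom
      (((ι F i).op.lanUnit.app R).app j.left r))) =
    (deg R V (((ι F i).op.lan.obj R).map j.hom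
      (((ι F i).op.lanUnit.app R).app j.left r))).map _
  rw [deg_rep, NatTrans.naturality_apply]
  have hu := congrArg (fun t => t.app j.left r) ((ι F i).op.lanUnit.naturality φ)
  dsimp at hu
  erw [← hu]
  exact (deg_rep R' V j (φ.app j.left r)).trans (degAux_map φ _ r)

variable {J : FibSite.Topologies F}

lemma W_iff_W_lan (hF : FibSite.IsPreFibSite F J) {R R' : (F.obj ⟨op i⟩)ᵒᵖ ⥤ Type u}
    (φ : R ⟶ R') :
    (J i).W φ ↔ (FibSite.totalTopology F J).W ((ι F i).op.lan.map φ) := by
  haveI := ι_isContinuous hF i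
  refine ⟨fun h => Functor.W_map_of_adjunction_of_isContinuous (J i) (FibSite.totalTopology F J)
    (ι F i) (ι F i).op.lan ((ι F i).op.lanAdjunction (Type u)) φ h, fun h => ?_⟩
  haveI := ι_isCocontinuous J hF i
  rw [GrothendieckTopology.W_iff_isLocallyBijective] at h ⊢
  obtain ⟨hinj, hsurj⟩ := h
  refine ⟨⟨fun {X} x y hxy => ?_⟩, ⟨fun {V} z => ?_⟩⟩
  · obtain ⟨V⟩ := X
    have e : ((ι F i).op.lan.map φ).app _ (((ι F i).op.lanUnit.app R).app (op V) x) =
        ((ι F i).op.lan.map φ).app _ (((ι F i).op.lanUnit.app R).app (op V) y) := by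
      have hu := congrArg (fun t => t.app (op V)) ((ι F i).op.lanUnit.naturality φ)
      exact (ConcreteCategory.congr_hom hu x).symm.trans ((congrArg _ hxy).trans
        (ConcreteCategory.congr_hom hu y))
    refine (J i).superset_covering (fun W l hl => ?_) ((ι F i).cover_lift (J i)
      (FibSite.totalTopology F J) (Presheaf.equalizerSieve_mem (FibSite.totalTopology F J)
        ((ι F i).op.lan.map φ) _ _ e))
    change R.map l.op x = R.map l.op y
    refine Option.some_injective _ ?_
    rw [← deg_unit R W (R.map l.op x), ← deg_unit R W (R.map l.op y)]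
    refine congrArg (deg R W) ?_
    exact (NatTrans.naturality_apply ((ι F i).op.lanUnit.app R) l.op x).trans (hl.trans
      (NatTrans.naturality_apply ((ι F i).op.lanUnit.app R) l.op y).symm)
  · refine (J i).superset_covering (fun W l hl => ?_) ((ι F i).cover_lift (J i)
      (FibSite.totalTopology F J) (Presheaf.imageSieve_mem (FibSite.totalTopology F J)
        ((ι F i).op.lan.map φ) (U := op ((ι F i).obj V))
        (((ι F i).op.lanUnit.app R').app (op V) z)))
    obtain ⟨t, ht⟩ := hl
    have h' : (deg R W t).map (φ.app (op W)) = some (R'.map l.op z) := by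
      rw [← deg_naturality, ← deg_unit R' W (R'.map l.op z)]
      exact congrArg (deg R' W) (ht.trans
        (NatTrans.naturality_apply ((ι F i).op.lanUnit.app R') l.op z).symm)
    obtain ⟨r, _, hr⟩ := Option.map_eq_some_iff.1 h'
    exact ⟨r, hr⟩

end Groth.Agent.FibSite
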