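import Groth.Agent.FibSite.Coext
import Groth.Agent.FibSite.W
import Mathlib.CategoryTheory.Limits.Types.Pullbacks
import Mathlib.CategoryTheory.Limits.Preserves.Shapes.Pullbacks
import Mathlib.CategoryTheory.Limits.Preserves.FunctorCategory

/-!
# Extension from a fibre preserves pullbacks and reflects isomorphisms
-/

set_option backward.isDefEq.respectTransparency false
set_option backward.isDefEq.respectTransparency.types false

universe u v₃ u₃

open CategoryTheory Limits Opposite Bicategory Pseudofunctor Pseudofunctor.CoGrothendieck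

namespace Groth.Agent.FibSite

section Sigma

variable {C : Type u₃} [Category.{v₃} C] {D : Type u} [SmallCategory D] {ι : Type u}
  (Q : ι → C ⥤ Dᵒᵖ ⥤ Type u)

/-- The pointwise disjoint union of a family of presheaf valued functors. -/
def sigmaFunctor : C ⥤ Dᵒᵖ ⥤ Type u where
  obj a :=
    { obj := fun V => Σ b, ((Q b).obj a).obj V
      map := fun h => ↾(fun x => ⟨x.1, ((Q x.1).obj a).map h x.2⟩)
      map_id := fun V => by ext ⟨b, x⟩ <;> simp
      map_comp := fun f g => by ext ⟨b, x⟩ <;> simp }
  map φ :=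
    { app := fun V => ↾(fun x => ⟨x.1, ((Q x.1).map φ).app V x.2⟩)
      naturality := fun V W h => by
        refine ConcreteCategory.hom_ext _ _ fun ⟨b, x⟩ => ?_
        exact congrArg (Sigma.mk b) (NatTrans.naturality_apply ((Q b).map φ) h x) }
  map_id a := by
    ext V ⟨b, x⟩ <;> simp
  map_comp f g := by
    ext V ⟨b, x⟩ <;> simp

lemma sigmaFunctor_preservesPullbacks [HasPullbacks C]
    [∀ b, PreservesLimitsOfShape WalkingCospan (Q b)] :
    PreservesLimitsOfShape WalkingCospan (sigmaFunctor Q) := by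
  refine preservesLimitsOfShape_of_evaluation _ _ fun V => ⟨fun {K} => ?_⟩
  refine @preservesLimit_of_iso_diagram _ _ _ _ _ _ _ _ _ (diagramIsoCospan K).symm ?_
  refine preservesLimit_of_preserves_limit_cone (IsPullback.of_hasPullback _ _).isLimit
    ((isLimitMapConePullbackConeEquiv _ pullback.condition).symm ?_)
  set f := K.map WalkingCospan.Hom.inl
  set g := K.map WalkingCospan.Hom.inr
  have hb : ∀ b, IsPullback (((Q b).map (pullback.fst f g)).app V)
      (((Q b).map (pullback.snd f g)).app V) (((Q b).map f).app V) (((Q b).map g).app V) :=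
    fun b => ((IsPullback.of_hasPullback f g).map (Q b)).map ((evaluation Dᵒᵖ (Type u)).obj V)
  refine IsPullback.isLimit (h := ((Types.isPullback_iff _ _ _ _).2 ⟨?_, ?_, ?_⟩))
  · rw [← Functor.map_comp, ← Functor.map_comp, pullback.condition]
  · rintro ⟨b, x⟩ ⟨b', x'⟩ ⟨h₁, h₂⟩
    obtain rfl : b = b' := (Sigma.mk.inj_iff.1 h₁).1
    exact congrArg (Sigma.mk b)
      (Types.ext_of_isPullback (hb b) (eq_of_heq (Sigma.mk.inj_iff.1 h₁).2)
        (eq_of_heq (Sigma.mk.inj_iff.1 h₂).2))
  · rintro ⟨b, x⟩ ⟨b', x'⟩ h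
    obtain rfl : b = b' := (Sigma.mk.inj_iff.1 h).1
    obtain ⟨z, hz₁, hz₂⟩ :=
      Types.exists_of_isPullback (hb b) x x' (eq_of_heq (Sigma.mk.inj_iff.1 h).2)
    exact ⟨⟨b, z⟩, congrArg (Sigma.mk b) hz₁, congrArg (Sigma.mk b) hz₂⟩

end Sigma

variable {𝒮 : Type u} [SmallCategory 𝒮]
  {F : Pseudofunctor (LocallyDiscrete 𝒮ᵒᵖ) Cat.{u, u}} {J : FibSite.Topologies F} {i : 𝒮}
  [(ι F i).IsContinuous (J i) (FibSite.totalTopology F J)]
  [((ι F i).sheafPushforwardContinuous (Type u) (J i) (FibSite.totalTopology F J)).IsRightAdjoint]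

lemma extend_preservesPullbacks (hF : FibSite.IsFibSite F J) :
    PreservesLimitsOfShape WalkingCospan (FibSite.extend F J (Type u) i) := by
  haveI := fun S => ι_isCocontinuous J hF.isPreFibSite S
  haveI := fun S => ι_isContinuous hF.isPreFibSite S
  refine preservesLimitsOfShape_of_restr (K := WalkingCospan) _ fun S => ?_
  haveI := fun b : S ⟶ i => (hF b).1
  haveI := fun b : S ⟶ i => (hF b).2.1
  let Q : (S ⟶ i) → Sheaf (J i) (Type u) ⥤ (F.obj ⟨op S⟩)ᵒᵖ ⥤ Type u := fun b =>
    (FibSite.invImage F b).sheafPullback (Type u) (J i) (J S) ⋙ sheafToPresheaf (J S) (Type u)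
  haveI : ∀ b, PreservesLimitsOfShape WalkingCospan (Q b) := fun b => by
    obtain ⟨_, _, h⟩ := hF b
    haveI : PreservesFiniteLimits
        ((FibSite.invImage F b).sheafPullback (Type u) (J i) (J S)) := h
    exact comp_preservesLimitsOfShape _ _
  haveI := sigmaFunctor_preservesPullbacks Q
  let E := FibSite.extend F J (Type u) i ⋙ FibSite.restr F J (Type u) S
  let φ : sigmaFunctor Q ⟶ E ⋙ sheafToPresheaf (J S) (Type u) :=
    { app := fun a =>
        { app := fun V => ↾(fun x => ((incl J i S x.1).app a).hom.app V x.2)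
          naturality := fun V W h => by
            ext ⟨b, x⟩
            exact NatTrans.naturality_apply ((incl J i S b).app a).hom h x }
      naturality := fun a a' f => by
        ext V ⟨b, x⟩
        exact congrArg (fun t => t.hom.app V x) ((incl J i S b).naturality f) }
  have hW : ∀ a, (J S).W (φ.app a) := by
    intro a H hH
    let hc := (nonempty_isColimit_incl J i S a).some
    constructor
    · intro g g' h
      have : (⟨g⟩ : E.obj a ⟶ ⟨H, hH⟩) = ⟨g'⟩ := hc.hom_ext fun ⟨b⟩ => by
        ext V x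
        exact congrArg (fun t => t.app V (⟨b, x⟩ : Σ b, ((Q b).obj a).obj V)) h
      exact congrArg (fun t => t.hom) this
    · intro g
      let s : Cofan fun b : S ⟶ i =>
          ((FibSite.invImage F b).sheafPullback (Type u) (J i) (J S)).obj a :=
        Cofan.mk (⟨H, hH⟩ : Sheaf (J S) (Type u)) fun b =>
          ⟨{ app := fun V => ↾(fun x => g.app V ⟨b, x⟩), naturality := fun V W h => by
              ext x
              exact NatTrans.naturality_apply g h ⟨b, x⟩ }⟩
      refine ⟨(hc.desc s).hom, NatTrans.ext (funext fun V =>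
        ConcreteCategory.hom_ext _ _ fun ⟨b, x⟩ => ?_)⟩
      have hfac : (incl J i S b).app a ≫ hc.desc s = s.inj b := hc.fac s ⟨b⟩
      exact congrArg (fun t => t.hom.app V x) hfac
  haveI : IsIso (Functor.whiskerRight φ (presheafToSheaf (J S) (Type u))) := by
    refine @NatIso.isIso_of_isIso_app _ _ _ _ _ _ _ fun a => ?_
    exact ((J S).W_iff (φ.app a)).1 (hW a)
  exact preservesLimitsOfShape_of_natIso
    (asIso (Functor.whiskerRight φ (presheafToSheaf (J S) (Type u))) ≪≫ Functor.associator _ _ _ ≪≫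
      Functor.isoWhiskerLeft E (sheafificationNatIso (J S) (Type u)).symm ≪≫ E.rightUnitor)

lemma extend_reflectsIsomorphisms (hF : FibSite.IsPreFibSite F J) :
    (FibSite.extend F J (Type u) i).ReflectsIsomorphisms := by
  refine ⟨fun {P Q} f hf => ?_⟩
  let e := Functor.sheafPullbackConstruction.sheafPullbackIso (ι F i) (Type u) (J i)
    (FibSite.totalTopology F J)
  have h₁ : IsIso ((presheafToSheaf (FibSite.totalTopology F J) (Type u)).map
      ((ι F i).op.lan.map f.hom)) := (NatIso.isIso_map_iff e f).1 hf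
  have h₂ : (J i).W f.hom := (W_iff_W_lan hF f.hom).2
    (((FibSite.totalTopology F J).W_iff _).2 h₁)
  have h₃ : IsIso ((presheafToSheaf (J i) (Type u)).map f.hom) := ((J i).W_iff _).1 h₂
  exact (NatIso.isIso_map_iff (sheafificationNatIso (J i) (Type u)) f).2 h₃

end Groth.Agent.FibSite
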