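import Groth.Agent.FibSite.ExtendPullback
import Mathlib.CategoryTheory.Limits.Constructions.LimitsOfProductsAndEqualizers

/-!
# Morphisms of fibred sites and morphisms of total sites
-/

set_option backward.isDefEq.respectTransparency false
set_option backward.isDefEq.respectTransparency.types false

universe u v₂ u₂ v₁ u₁

open CategoryTheory Limits Opposite Bicategory Pseudofunctor Pseudofunctor.CoGrothendieck
  StrongTrans
open scoped CategoryTheory.Pseudofunctor.StrongTrans

namespace Groth.Agent.FibSite

section Formal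

variable {𝒮 : Type u₁} [Category.{v₁} 𝒮]
  {F G : Pseudofunctor (LocallyDiscrete 𝒮ᵒᵖ) Cat.{v₂, u₂}} (α : G ⟶ F)

lemma map_ι_map {S : 𝒮} {V U : G.obj ⟨op S⟩} (h : V ⟶ U) :
    (Pseudofunctor.CoGrothendieck.map α).map ((ι G S).map h) =
      (ι F S).map ((α.app ⟨op S⟩).toFunctor.map h) := by
  dsimp [ι]
  ext
  · simp
  · simp [Cat.Hom.comp_toFunctor, StrongTrans.naturality_id_hom_app, Cat.Hom.id_toFunctor,
      ← Category.assoc, ← Functor.map_comp, ← Cat.Hom₂.comp_app]
    refine congrArg (fun t => (α.app ⟨op S⟩).toFunctor.map t ≫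
      (F.mapId ⟨op S⟩).inv.toNatTrans.app ((α.app ⟨op S⟩).toFunctor.obj U)) ?_
    exact (Category.assoc _ _ _).trans ((congrArg (h ≫ ·)
      ((Cat.Hom.toNatIso (G.mapId ⟨op S⟩)).inv_hom_id_app U)).trans (Category.comp_id _))

/-- The fibre functors commute with the fibre inclusions. -/
def ιMapIso (S : 𝒮) : (α.app ⟨op S⟩).toFunctor ⋙ ι F S ≅
    ι G S ⋙ Pseudofunctor.CoGrothendieck.map α :=
  NatIso.ofComponents (fun U => Iso.refl ((ι F S).obj ((α.app ⟨op S⟩).toFunctor.obj U)))
    fun h => (Category.comp_id _).trans ((map_ι_map α h).symm.trans (Category.id_comp _).symm)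

lemma map_cart {R S : 𝒮} (b : R ⟶ S) (W : G.obj ⟨op S⟩) :
    (Pseudofunctor.CoGrothendieck.map α).map (cart b W) =
      hom b ((α.naturality b.op.toLoc).hom.toNatTrans.app W) := by
  refine Hom.ext _ _ rfl ?_
  simp
  exact (congrArg (· ≫ (α.naturality b.op.toLoc).hom.toNatTrans.app W)
    ((α.app ⟨op R⟩).toFunctor.map_id _)).trans (Category.id_comp _)

end Formal

variable {𝒮 : Type u} [SmallCategory 𝒮]
  {F G : Pseudofunctor (LocallyDiscrete 𝒮ᵒᵖ) Cat.{u, u}} {J : FibSite.Topologies F}
  {K : FibSite.Topologies G} (α : G ⟶ F)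

lemma map_isContinuous (hF : FibSite.IsPreFibSite F J) (hG : FibSite.IsPreFibSite G K)
    (hα : ∀ S : 𝒮, (α.app ⟨op S⟩).toFunctor.IsContinuous (K S) (J S)) :
    (Pseudofunctor.CoGrothendieck.map α).IsContinuous
      (FibSite.totalTopology G K) (FibSite.totalTopology F J) := by
  refine (isContinuous_iff hG _ _).2 fun S => ?_
  haveI := hα S
  haveI := ι_isContinuous hF S
  exact Functor.isContinuous_comp' (ιMapIso α S) (K S) (J S) (FibSite.totalTopology F J)

section LeftExact

variable [(Pseudofunctor.CoGrothendieck.map α).IsContinuous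
  (FibSite.totalTopology G K) (FibSite.totalTopology F J)]
  (S : 𝒮) [(α.app ⟨op S⟩).toFunctor.IsContinuous (K S) (J S)]
  [(ι F S).IsCocontinuous (J S) (FibSite.totalTopology F J)]
  [(ι G S).IsCocontinuous (K S) (FibSite.totalTopology G K)]
  [(ι G S).IsContinuous (K S) (FibSite.totalTopology G K)]

/-- The component of the comparison of coextensions. -/
noncomputable def mateAux (H : Sheaf (J S) (Type u)) :
    (FibSite.restr G K (Type u) S).obj
      (((Pseudofunctor.CoGrothendieck.map α).sheafPushforwardContinuous (Type u)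
        (FibSite.totalTopology G K) (FibSite.totalTopology F J)).obj
          ((FibSite.coextend F J (Type u) S).obj H)) ⟶
      ((α.app ⟨op S⟩).toFunctor.sheafPushforwardContinuous (Type u) (K S) (J S)).obj H :=
  ⟨Functor.whiskerRight (NatTrans.op (ιMapIso α S).hom) ((ι F S).op.ran.obj H.obj) ≫
    Functor.whiskerLeft (α.app ⟨op S⟩).toFunctor.op ((ι F S).op.ranCounit.app H.obj)⟩

/-- The comparison of coextensions. -/
noncomputable def mate :
    FibSite.coextend F J (Type u) S ⋙ (Pseudofunctor.CoGrothendieck.map α).sheafPushforwardContinuous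
        (Type u) (FibSite.totalTopology G K) (FibSite.totalTopology F J) ⟶
      (α.app ⟨op S⟩).toFunctor.sheafPushforwardContinuous (Type u) (K S) (J S) ⋙
        FibSite.coextend G K (Type u) S where
  app H := ((ι G S).sheafAdjunctionCocontinuous (Type u) (K S)
    (FibSite.totalTopology G K)).homEquiv _ _ (mateAux α S H)
  naturality H H' φ := by
    refine (Adjunction.homEquiv_naturality_left _ _ _).symm.trans (Eq.trans ?_
      (Adjunction.homEquiv_naturality_right _ _ _))
    congr 1
    ext U x
    refine (congrArg (((ι F S).op.ranCounit.app H'.obj).app _)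
      (NatTrans.naturality_apply ((ι F S).op.ran.map φ.hom)
        ((ιMapIso α S).hom.app U.unop).op x).symm).trans ?_
    exact congrArg (fun t => t.app (op ((α.app ⟨op S⟩).toFunctor.obj U.unop))
      (((ι F S).op.ran.obj H.obj).map ((ιMapIso α S).hom.app U.unop).op x))
        ((ι F S).op.ranCounit.naturality φ.hom)

lemma ranCounit_mate (H : Sheaf (J S) (Type u)) :
    Functor.whiskerLeft (ι G S).op ((mate (J := J) (K := K) α S).app H).hom ≫
        (ι G S).op.ranCounit.app ((α.app ⟨op S⟩).toFunctor.op ⋙ H.obj) =
      (mateAux (J := J) (K := K) α S H).hom := by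
  have h := Adjunction.homEquiv_counit (X := _) (Y := _)
    ((ι G S).sheafAdjunctionCocontinuous (Type u) (K S) (FibSite.totalTopology G K))
    ((mate (J := J) (K := K) α S).app H)
  have h' := congrArg (fun t => t.hom) (h.symm.trans (Equiv.symm_apply_apply _ _))
  refine Eq.trans ?_ h'
  refine congrArg (Functor.whiskerLeft (ι G S).op ((mate (J := J) (K := K) α S).app H).hom ≫ ·) ?_
  rw [(ι G S).sheafAdjunctionCocontinuous_counit_app_hom, Functor.ranAdjunction_counit]
  rfl

lemma mate_isIso : IsIso (mate (J := J) (K := K) α S) := by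
  refine @NatIso.isIso_of_isIso_app _ _ _ _ _ _ _ fun H => ?_
  refine @CategoryTheory.Functor.FullyFaithful.isIso_of_isIso_map _ _ _ _
    (sheafToPresheaf _ _) (fullyFaithfulSheafToPresheaf _ _) _ _ _ ?_
  refine @NatIso.isIso_of_isIso_app _ _ _ _ _ _ _ fun X => ?_
  obtain ⟨⟨T, W⟩⟩ := X
  rw [isIso_iff_bijective]
  have hG := projPre_bijective (R := S) (S := T) ((α.app ⟨op S⟩).toFunctor.op ⋙ H.obj) W
  have hF := projPre_bijective (R := S) (S := T) H.obj ((α.app ⟨op T⟩).toFunctor.obj W)
  have key : ∀ (b : S ⟶ T)
      (x : ((ι F S).op.ran.obj H.obj).obj (op ((ι F T).obj ((α.app ⟨op T⟩).toFunctor.obj W)))),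
      (projPre b ((α.app ⟨op S⟩).toFunctor.op ⋙ H.obj)).app (op W)
          (((mate (J := J) (K := K) α S).app H).hom.app (op ((ι G T).obj W)) x) =
        H.obj.map ((α.naturality b.op.toLoc).hom.toNatTrans.app W).op
          ((projPre b H.obj).app (op ((α.app ⟨op T⟩).toFunctor.obj W)) x) := by
    intro b x
    refine (projPre_app b _ W _).trans (Eq.trans ?_ (congrArg _ (projPre_app b H.obj _ x).symm))
    have h := congrArg (fun t => t.app (op ((FibSite.invImage G b).obj W))
      (((ι F S).op.ran.obj H.obj).map ((Pseudofunctor.CoGrothendieck.map α).map (cart b W)).op x)) (ranCounit_mate (J := J) (K := K) α S H)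
    refine Eq.trans ?_ (h.trans ?_)
    · exact congrArg (fun t => ((ι G S).op.ranCounit.app
        ((α.app ⟨op S⟩).toFunctor.op ⋙ H.obj)).app (op ((FibSite.invImage G b).obj W)) t)
        (NatTrans.naturality_apply ((mate (J := J) (K := K) α S).app H).hom (cart b W).op x).symm
    · change ((ι F S).op.ranCounit.app H.obj).app _
          (((ι F S).op.ran.obj H.obj).map (𝟙 _)
            (((ι F S).op.ran.obj H.obj).map ((Pseudofunctor.CoGrothendieck.map α).map (cart b W)).op x)) = _
      rw [map_cart]
      refine (congrArg _ (Functor.map_id_apply _ _ _)).trans ?_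
      rw [← ι_map_comp_cart b ((α.naturality b.op.toLoc).hom.toNatTrans.app W), op_comp]
      erw [Functor.map_comp_apply]
      exact NatTrans.naturality_apply ((ι F S).op.ranCounit.app H.obj)
        ((α.naturality b.op.toLoc).hom.toNatTrans.app W).op _
  have hθ : ∀ b : S ⟶ T, Function.Bijective
      (H.obj.map ((α.naturality b.op.toLoc).hom.toNatTrans.app W).op) := fun b =>
    (isIso_iff_bijective _).1 (inferInstanceAs
      (IsIso (H.obj.map ((Cat.Hom.toNatIso (α.naturality b.op.toLoc)).app W).op.hom)))
  refine Function.Bijective.of_comp_iff' hG _ |>.1 ?_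
  have h := (Function.Bijective.piMap hθ).comp hF
  refine (iff_of_eq (congrArg Function.Bijective (funext fun x => funext fun b => ?_))).2 h
  exact key b x

end LeftExact

lemma map_morphismOfSites (hF : FibSite.IsFibSite F J) (hG : FibSite.IsFibSite G K)
    [(Pseudofunctor.CoGrothendieck.map α).IsContinuous
      (FibSite.totalTopology G K) (FibSite.totalTopology F J)]
    (hα : ∀ S : 𝒮, ∃ (_ : (α.app ⟨op S⟩).toFunctor.IsContinuous (K S) (J S))
      (_ : ((α.app ⟨op S⟩).toFunctor.sheafPushforwardContinuous (Type u) (K S) (J S)).IsRightAdjoint),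
      PreservesFiniteLimits ((α.app ⟨op S⟩).toFunctor.sheafPullback (Type u) (K S) (J S))) :
    PreservesFiniteLimits ((Pseudofunctor.CoGrothendieck.map α).sheafPullback (Type u)
      (FibSite.totalTopology G K) (FibSite.totalTopology F J)) := by
  haveI := fun S => ι_isCocontinuous J hF.isPreFibSite S
  haveI := fun S => ι_isContinuous hF.isPreFibSite S
  haveI := fun S => ι_isCocontinuous K hG.isPreFibSite S
  haveI := fun S => ι_isContinuous hG.isPreFibSite S
  refine ⟨fun C _ _ => preservesLimitsOfShape_of_restr _ fun S => ?_⟩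
  obtain ⟨_, _, h⟩ := hα S
  haveI := mate_isIso (J := J) (K := K) α S
  haveI hfin : PreservesFiniteLimits (FibSite.restr G K (Type u) S ⋙
      (α.app ⟨op S⟩).toFunctor.sheafPullback (Type u) (K S) (J S)) :=
    comp_preservesFiniteLimits _ _
  exact preservesLimitsOfShape_of_natIso
    ((conjugateIsoEquiv
      (((Pseudofunctor.CoGrothendieck.map α).sheafAdjunctionContinuous (Type u)
        (FibSite.totalTopology G K) (FibSite.totalTopology F J)).comp
          ((ι F S).sheafAdjunctionCocontinuous (Type u) (J S) (FibSite.totalTopology F J)))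
      (((ι G S).sheafAdjunctionCocontinuous (Type u) (K S) (FibSite.totalTopology G K)).comp
        ((α.app ⟨op S⟩).toFunctor.sheafAdjunctionContinuous (Type u) (K S) (J S)))).symm
      (asIso (mate (J := J) (K := K) α S)))

lemma fibre_isContinuous (hF : FibSite.IsPreFibSite F J) (hG : FibSite.IsPreFibSite G K)
    [(Pseudofunctor.CoGrothendieck.map α).IsContinuous
      (FibSite.totalTopology G K) (FibSite.totalTopology F J)] (S : 𝒮) :
    (α.app ⟨op S⟩).toFunctor.IsContinuous (K S) (J S) := by
  haveI := ι_isContinuous hG S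
  let e : (ι G S).op.lan ⋙ (Pseudofunctor.CoGrothendieck.map α).op.lan ≅
      (α.app ⟨op S⟩).toFunctor.op.lan ⋙ (ι F S).op.lan :=
    Adjunction.leftAdjointUniq
      ((((ι G S).op.lanAdjunction (Type u)).comp ((Pseudofunctor.CoGrothendieck.map α).op.lanAdjunction (Type u))).ofNatIsoRight
        ((Functor.whiskeringLeft _ _ (Type u)).mapIso (NatIso.op (ιMapIso α S))))
      (((α.app ⟨op S⟩).toFunctor.op.lanAdjunction (Type u)).comp ((ι F S).op.lanAdjunction (Type u)))
  refine ⟨fun H => Presieve.IsSheaf.comp_of_W_map_of_adjunction (K := J S) _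
    ((α.app ⟨op S⟩).toFunctor.op.lanAdjunction (Type u)) (fun X R hR => ?_) _
    ((isSheaf_iff_isSheaf_of_type _ _).1 H.property)⟩
  have h₁ := Functor.W_map_of_adjunction_of_isContinuous (FibSite.totalTopology G K)
    (FibSite.totalTopology F J) (Pseudofunctor.CoGrothendieck.map α) (Pseudofunctor.CoGrothendieck.map α).op.lan ((Pseudofunctor.CoGrothendieck.map α).op.lanAdjunction (Type u)) _
    ((W_iff_W_lan hG (Sieve.shrinkFunctor.{u} R).ι).1 (Sieve.W_shrinkFunctor_ι_of_mem _ R hR))
  refine (W_iff_W_lan hF _).2 ?_
  exact ((FibSite.totalTopology F J).W.arrow_mk_iso_iff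
    (Arrow.isoMk (e.app _) (e.app _) (e.hom.naturality _).symm)).1 h₁

lemma fibre_morphismOfSites (hF : FibSite.IsFibSite F J) (hG : FibSite.IsFibSite G K)
    [(Pseudofunctor.CoGrothendieck.map α).IsContinuous
      (FibSite.totalTopology G K) (FibSite.totalTopology F J)]
    (h : PreservesFiniteLimits ((Pseudofunctor.CoGrothendieck.map α).sheafPullback (Type u)
      (FibSite.totalTopology G K) (FibSite.totalTopology F J)))
    (S : 𝒮) [(α.app ⟨op S⟩).toFunctor.IsContinuous (K S) (J S)] :
    PreservesFiniteLimits ((α.app ⟨op S⟩).toFunctor.sheafPullback (Type u) (K S) (J S)) := by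
  haveI := fun S => ι_isCocontinuous J hF.isPreFibSite S
  haveI := fun S => ι_isContinuous hF.isPreFibSite S
  haveI := fun S => ι_isCocontinuous K hG.isPreFibSite S
  haveI := fun S => ι_isContinuous hG.isPreFibSite S
  -- pullbacks
  haveI : PreservesLimitsOfShape WalkingCospan
      ((α.app ⟨op S⟩).toFunctor.sheafPullback (Type u) (K S) (J S)) := by
    haveI := extend_reflectsIsomorphisms (i := S) hF.isPreFibSite
    haveI := extend_preservesPullbacks (i := S) hF
    haveI := extend_preservesPullbacks (i := S) hG
    haveI : PreservesLimitsOfShape WalkingCospan (FibSite.extend G K (Type u) S ⋙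
        (Pseudofunctor.CoGrothendieck.map α).sheafPullback (Type u) (FibSite.totalTopology G K) (FibSite.totalTopology F J)) :=
      comp_preservesLimitsOfShape _ _
    haveI : ReflectsLimitsOfShape WalkingCospan (FibSite.extend F J (Type u) S) :=
      reflectsLimitsOfShape_of_reflectsIsomorphisms
    haveI : PreservesLimitsOfShape WalkingCospan
        ((α.app ⟨op S⟩).toFunctor.sheafPullback (Type u) (K S) (J S) ⋙
          FibSite.extend F J (Type u) S) :=
      preservesLimitsOfShape_of_natIso
        (Adjunction.leftAdjointUniq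
          ((((ι G S).sheafAdjunctionContinuous (Type u) (K S) (FibSite.totalTopology G K)).comp
            ((Pseudofunctor.CoGrothendieck.map α).sheafAdjunctionContinuous (Type u) (FibSite.totalTopology G K)
              (FibSite.totalTopology F J))).ofNatIsoRight
            (show (Pseudofunctor.CoGrothendieck.map α).sheafPushforwardContinuous (Type u) (FibSite.totalTopology G K)
                  (FibSite.totalTopology F J) ⋙ FibSite.restr G K (Type u) S ≅
                FibSite.restr F J (Type u) S ⋙
                  (α.app ⟨op S⟩).toFunctor.sheafPushforwardContinuous (Type u) (K S) (J S) from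
              NatIso.ofComponents (fun P => (fullyFaithfulSheafToPresheaf _ _).preimageIso
              (Functor.isoWhiskerRight (NatIso.op (ιMapIso α S)) P.obj)) fun f => by
                ext U x
                exact (NatTrans.naturality_apply f.hom _ x).symm))
          (((α.app ⟨op S⟩).toFunctor.sheafAdjunctionContinuous (Type u) (K S) (J S)).comp
            ((ι F S).sheafAdjunctionContinuous (Type u) (J S) (FibSite.totalTopology F J))))
    exact preservesLimitsOfShape_of_reflects_of_preserves _ (FibSite.extend F J (Type u) S)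
  -- terminal object
  haveI : PreservesLimitsOfShape (Discrete PEmpty.{1})
      ((α.app ⟨op S⟩).toFunctor.sheafPullback (Type u) (K S) (J S)) := by
    haveI := mate_isIso (J := J) (K := K) α S
    haveI : PreservesFiniteLimits ((Pseudofunctor.CoGrothendieck.map α).sheafPullback (Type u) (FibSite.totalTopology G K)
        (FibSite.totalTopology F J) ⋙ FibSite.restr F J (Type u) S) :=
      comp_preservesFiniteLimits _ _
    haveI hfin : PreservesFiniteLimits (FibSite.restr G K (Type u) S ⋙
        (α.app ⟨op S⟩).toFunctor.sheafPullback (Type u) (K S) (J S)) :=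
      preservesFiniteLimits_of_natIso ((conjugateIsoEquiv
      (((Pseudofunctor.CoGrothendieck.map α).sheafAdjunctionContinuous (Type u)
        (FibSite.totalTopology G K) (FibSite.totalTopology F J)).comp
          ((ι F S).sheafAdjunctionCocontinuous (Type u) (J S) (FibSite.totalTopology F J)))
      (((ι G S).sheafAdjunctionCocontinuous (Type u) (K S) (FibSite.totalTopology G K)).comp
        ((α.app ⟨op S⟩).toFunctor.sheafAdjunctionContinuous (Type u) (K S) (J S)))).symm
      (asIso (mate (J := J) (K := K) α S))).symm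
    haveI := (isRightAdjoint_restr hG.isPreFibSite S).2
    haveI : PreservesLimit (Functor.empty.{0} (FibSite.TotSh G K (Type u)))
        (FibSite.restr G K (Type u) S) := inferInstance
    have h₁ := IsTerminal.isTerminalObj (FibSite.restr G K (Type u) S) _
      (terminalIsTerminal (C := FibSite.TotSh G K (Type u)))
    haveI : PreservesLimit (Functor.empty.{0} (FibSite.TotSh G K (Type u)))
        (FibSite.restr G K (Type u) S ⋙
          (α.app ⟨op S⟩).toFunctor.sheafPullback (Type u) (K S) (J S)) :=
      (hfin.preservesFiniteLimits (Discrete PEmpty.{1})).preservesLimit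
    have h₂ := IsTerminal.isTerminalObj (FibSite.restr G K (Type u) S ⋙
      (α.app ⟨op S⟩).toFunctor.sheafPullback (Type u) (K S) (J S)) _
        (terminalIsTerminal (C := FibSite.TotSh G K (Type u)))
    haveI : PreservesLimit (Functor.empty.{0} (Sheaf (K S) (Type u)))
        ((α.app ⟨op S⟩).toFunctor.sheafPullback (Type u) (K S) (J S)) :=
      preservesLimit_of_preserves_limit_cone h₁ ((isLimitMapConeEmptyConeEquiv _ _).symm h₂)
    exact preservesLimitsOfShape_pempty_of_preservesTerminal _
  exact preservesFiniteLimits_of_preservesTerminal_and_pullbacks _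

end Groth.Agent.FibSite
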