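import Groth.Agent.FibSite.Coext

/-!
# Extension from the fibre over a final object
-/

set_option backward.isDefEq.respectTransparency false
set_option backward.isDefEq.respectTransparency.types false

universe u v₂ u₂ v₁ u₁

open CategoryTheory Limits Opposite Bicategory Pseudofunctor Pseudofunctor.CoGrothendieck

namespace Groth.Agent.FibSite

lemma ι_full_faithful {𝒮 : Type u₁} [Category.{v₁} 𝒮]
    (F : Pseudofunctor (LocallyDiscrete 𝒮ᵒᵖ) Cat.{v₂, u₂}) {i : 𝒮} (hi : IsTerminal i) :
    (ι F i).Full ∧ (ι F i).Faithful :=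
  ⟨⟨fun g => exists_ι_map g (hi.hom_ext _ _)⟩, ⟨fun h => ι_map_injective h⟩⟩

variable {𝒮 : Type u} [SmallCategory 𝒮]
  {F : Pseudofunctor (LocallyDiscrete 𝒮ᵒᵖ) Cat.{u, u}} {J : FibSite.Topologies F}
  {i : 𝒮} (hi : IsTerminal i)
  [(ι F i).IsContinuous (J i) (FibSite.totalTopology F J)]
  [((ι F i).sheafPushforwardContinuous (Type u) (J i) (FibSite.totalTopology F J)).IsRightAdjoint]

include hi in
lemma extend_full_faithful (hF : FibSite.IsPreFibSite F J) :
    (FibSite.extend F J (Type u) i).Full ∧ (FibSite.extend F J (Type u) i).Faithful := by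
  haveI := ι_isCocontinuous J hF i
  haveI := (ι_full_faithful F hi).1
  haveI := (ι_full_faithful F hi).2
  let adj₂ := (ι F i).sheafAdjunctionCocontinuous (Type u) (J i) (FibSite.totalTopology F J)
  haveI : IsIso adj₂.counit := by
    refine @NatIso.isIso_of_isIso_app _ _ _ _ _ _ _ fun G => ?_
    refine @CategoryTheory.Functor.FullyFaithful.isIso_of_isIso_map _ _ _ _
      (sheafToPresheaf _ _) (fullyFaithfulSheafToPresheaf _ _) _ _ _ ?_
    change IsIso (adj₂.counit.app G).hom
    rw [(ι F i).sheafAdjunctionCocontinuous_counit_app_hom,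
      Functor.ranAdjunction_counit]
    exact inferInstanceAs (IsIso ((ι F i).op.ranCounit.app G.obj))
  let t : Adjunction.Triple (FibSite.extend F J (Type u) i) (FibSite.restr F J (Type u) i)
      (FibSite.coextend F J (Type u) i) :=
    ⟨(ι F i).sheafAdjunctionContinuous (Type u) (J i) (FibSite.totalTopology F J), adj₂⟩
  haveI : IsIso t.adj₁.unit := t.isIso_unit_iff_isIso_counit.2 (inferInstanceAs (IsIso adj₂.counit))
  exact ⟨t.adj₁.fullyFaithfulLOfIsIsoUnit.full, t.adj₁.fullyFaithfulLOfIsIsoUnit.faithful⟩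

include hi in
lemma extend_preservesFiniteLimits (hF : FibSite.IsFibSite F J) :
    PreservesFiniteLimits (FibSite.extend F J (Type u) i) := by
  haveI := fun S => ι_isCocontinuous J hF.isPreFibSite S
  haveI := fun S => ι_isContinuous hF.isPreFibSite S
  refine ⟨fun K _ _ => preservesLimitsOfShape_of_restr _ fun S => ?_⟩
  haveI : Subsingleton (S ⟶ i) := ⟨fun a b => hi.hom_ext a b⟩
  haveI := fun b : S ⟶ i => (hF b).1
  haveI := fun b : S ⟶ i => (hF b).2.1
  obtain ⟨_, _, h⟩ := hF (hi.from S)
  haveI : PreservesFiniteLimits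
      ((FibSite.invImage F (hi.from S)).sheafPullback (Type u) (J i) (J S)) := h
  haveI := isIso_incl J i S (hi.from S)
  exact preservesLimitsOfShape_of_natIso (asIso (incl J i S (hi.from S)))

end Groth.Agent.FibSite
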